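import Groth.Agent.Perf96.Ring
import Groth.Agent.UH57.Basic
import Mathlib.AlgebraicGeometry.Morphisms.UniversallyClosed
import Mathlib.AlgebraicGeometry.Morphisms.Affine
import Mathlib.AlgebraicGeometry.Morphisms.Separated
import Mathlib.AlgebraicGeometry.Morphisms.Proper
import Mathlib.AlgebraicGeometry.Morphisms.FlatMono

/-!
# `p`-radical morphisms are universal homeomorphisms
-/

set_option autoImplicit false

open CategoryTheory CategoryTheory.Limits AlgebraicGeometry

namespace Groth.Agent.Perf96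

universe u

variable {p : ℕ} [hp : Fact p.Prime]

theorem isUnivHomeo_SpecMap {R S : CommRingCat.{u}} (i : R ⟶ S) (hR : (p : R) = 0)
    (hi : PRad p i.hom) : FlatMor.IsUnivHomeo (Spec.map i) := by
  let _ : Algebra R S := i.hom.toAlgebra
  have hint : Algebra.IsIntegral (↑R) (↑S) := ⟨fun s => by
    obtain ⟨n, hn, r, hr⟩ := hi.pow_range _ hp.out.pos s
    refine IsIntegral.of_pow hn ?_
    rw [← hr]
    exact isIntegral_algebraMap⟩
  have hinj : Groth.Agent.UH57.HInj R S := by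
    intro K _ g₁ g₂ he
    have hKp : (p : K) = 0 := by
      rw [← map_natCast (g₁.comp (algebraMap R S)), hR, map_zero]
    have : CharP K p := (CharP.charP_iff_prime_eq_zero hp.out).mpr hKp
    ext s
    obtain ⟨n, r, hr⟩ := hi.pow_mem s
    apply iterateFrobenius_inj K p n
    simp only [iterateFrobenius_def, ← map_pow, ← hr]
    exact RingHom.congr_fun he r
  exact Groth.Agent.UH57.isUnivHomeo_iff.mpr
    ⟨hint, Groth.Agent.UH57.hInj_iff.mp hinj, hi.ker_le⟩

/-- `f ∣_ U` for affine `U` and affine preimage is `Spec` of `f.app U`. -/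
noncomputable def restrictArrowIso {X Y : Scheme.{u}} (f : X ⟶ Y) {U : Y.Opens}
    (hU : IsAffineOpen U) (hV : IsAffineOpen (f ⁻¹ᵁ U)) :
    Arrow.mk (f ∣_ U) ≅ Arrow.mk (Spec.map (f.app U)) :=
  Arrow.isoMk hV.isoSpec hU.isoSpec (by
    simp only [Arrow.mk_hom, IsAffineOpen.isoSpec_hom, Arrow.mk_left, Arrow.mk_right,
      Scheme.Opens.toSpecΓ_naturality])

omit hp in
theorem natCast_app_eq_zero {X : Scheme.{u}} (h : (p : Γ(X, ⊤)) = 0) (U : X.Opens) :
    (p : Γ(X, U)) = 0 := by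
  have h' := congrArg (X.presheaf.map (homOfLE (le_top : U ≤ ⊤)).op).hom h
  rwa [map_natCast, map_zero] at h'

theorem isUnivHomeo_of_pRad {X Y : Scheme.{u}} (f : X ⟶ Y) [IsAffineHom f]
    (hY : (p : Γ(Y, ⊤)) = 0)
    (h : ∀ U : Y.Opens, IsAffineOpen U → PRad p (f.app U).hom) : FlatMor.IsUnivHomeo f := by
  have hloc : ∀ U : Y.affineOpens, UniversallyClosed (f ∣_ U.1) ∧
      UniversallyInjective (f ∣_ U.1) ∧ Surjective (f ∣_ U.1) := by
    intro U
    have hsp := (Groth.Agent.UH57.isUnivHomeo_iff' _).mp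
      (isUnivHomeo_SpecMap _ (natCast_app_eq_zero hY U.1) (h U.1 U.2))
    let e := restrictArrowIso f U.2 (U.2.preimage f)
    have := UniversallyInjective.respectsIso
    have := universallyClosed_respectsIso
    exact ⟨(MorphismProperty.arrow_mk_iso_iff @UniversallyClosed e).mpr hsp.1,
      (MorphismProperty.arrow_mk_iso_iff @UniversallyInjective e).mpr hsp.2.1,
      (MorphismProperty.arrow_mk_iso_iff @Surjective e).mpr hsp.2.2⟩
  have htop : (⨆ U : Y.affineOpens, U.1) = ⊤ := iSup_affineOpens_eq_top Y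
  refine (Groth.Agent.UH57.isUnivHomeo_iff' f).mpr ⟨?_, ?_, ?_⟩
  · exact IsZariskiLocalAtTarget.of_iSup_eq_top _ htop fun U => (hloc U).1
  · exact IsZariskiLocalAtTarget.of_iSup_eq_top _ htop fun U => (hloc U).2.1
  · exact IsZariskiLocalAtTarget.of_iSup_eq_top _ htop fun U => (hloc U).2.2

omit hp in
theorem isUnivHomeo_comp {X Y Z : Scheme.{u}} {f : X ⟶ Y} {g : Y ⟶ Z}
    (hf : FlatMor.IsUnivHomeo f) (hg : FlatMor.IsUnivHomeo g) : FlatMor.IsUnivHomeo (f ≫ g) := by
  rw [Groth.Agent.UH57.isUnivHomeo_iff'] at hf hg ⊢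
  obtain ⟨_, _, _⟩ := hf
  obtain ⟨_, _, _⟩ := hg
  exact ⟨inferInstance, MorphismProperty.comp_mem @UniversallyInjective f g inferInstance inferInstance,
    inferInstance⟩

omit hp in
theorem isHomeomorph_of_isUnivHomeo {X Y : Scheme.{u}} {f : X ⟶ Y}
    (hf : FlatMor.IsUnivHomeo f) : IsHomeomorph f := hf _ _ _ (IsPullback.of_id_snd (f := f))

omit hp in
theorem isAffineHom_of_isUnivHomeo {X Y : Scheme.{u}} {f : X ⟶ Y}
    (hf : FlatMor.IsUnivHomeo f) : IsAffineHom f :=
  have h := isHomeomorph_of_isUnivHomeo hf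
  isAffineHom_of_isInducing f h.isInducing (h.surjective.range_eq ▸ isClosed_univ)

omit hp in
theorem isUnivHomeo_of_comp_left {X Y Z : Scheme.{u}} {f : X ⟶ Y} {g : Y ⟶ Z}
    (hfg : FlatMor.IsUnivHomeo (f ≫ g)) (hg : FlatMor.IsUnivHomeo g) : FlatMor.IsUnivHomeo f := by
  have hga := isAffineHom_of_isUnivHomeo hg
  rw [Groth.Agent.UH57.isUnivHomeo_iff'] at hfg hg ⊢
  obtain ⟨h1, h2, h3⟩ := hfg
  obtain ⟨g1, g2, g3⟩ := hg
  refine ⟨UniversallyClosed.of_comp_of_isSeparated f g, ?_, ⟨fun y => ?_⟩⟩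
  · rw [UniversallyInjective.iff_diagonal] at h2 ⊢
    let m : pullback f f ⟶ pullback (f ≫ g) (f ≫ g) :=
      pullback.lift (pullback.fst f f) (pullback.snd f f) (by rw [pullback.condition_assoc])
    have hm1 : m ≫ pullback.fst _ _ = pullback.fst f f := pullback.lift_fst _ _ _
    have hm2 : m ≫ pullback.snd _ _ = pullback.snd f f := pullback.lift_snd _ _ _
    clear_value m
    have hm : Mono m := ⟨fun a b hab => by
      apply pullback.hom_ext
      · rw [← hm1, reassoc_of% hab]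
      · rw [← hm2, reassoc_of% hab]⟩
    have hd : pullback.diagonal f ≫ m = pullback.diagonal (f ≫ g) := by
      apply pullback.hom_ext <;> simp [hm1, hm2]
    refine ⟨fun z => ?_⟩
    obtain ⟨x, hx⟩ := h2.surj (m z)
    refine ⟨x, m.injective ?_⟩
    rw [← Scheme.Hom.comp_apply, hd]
    exact hx
  · obtain ⟨x, hx⟩ := h3.surj (g y)
    exact ⟨x, g.injective hx⟩

end Groth.Agent.Perf96
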