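import Groth.Prelude.Def_Frob
import Groth.Prelude.Def_W4c1perfhdescPerf
import Groth.Agent.Perf96.UHom
import Mathlib.AlgebraicGeometry.Morphisms.IsIso

/-!
# Perfect schemes and perfections
-/

set_option autoImplicit false

open CategoryTheory CategoryTheory.Limits AlgebraicGeometry Opposite

namespace Groth.Agent.Perf96

universe u

variable (p : ℕ) [hp : Fact p.Prime]

/-- All rings of sections are perfect. -/
def PerfSec (X : Scheme.{u}) : Prop := ∀ U : X.Opens, PerfR p Γ(X, U)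

omit hp in
theorem perfSec_iff_perfSch (X : Scheme.{u}) : PerfSec p X ↔ PerfSch.IsPerfect p X :=
  ⟨fun h U => ⟨(h U).cast_eq, (h U).bij⟩, fun h U => ⟨(h U).1, (h U).2⟩⟩

theorem perfSec_iff_isPerfect (X : Scheme.{u}) [FrobSch.IsCharP X p] :
    PerfSec p X ↔ FrobSch.IsPerfect X p := by
  constructor
  · intro h
    change (MorphismProperty.isomorphisms Scheme) (FrobSch.frob X p)
    rw [IsZariskiLocalAtTarget.iff_of_iSup_eq_top (P := MorphismProperty.isomorphisms Scheme) _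
      (iSup_affineOpens_eq_top X)]
    intro U
    have hU : IsAffineOpen (FrobSch.frob X p ⁻¹ᵁ U.1) := U.2
    refine (MorphismProperty.arrow_mk_iso_iff (MorphismProperty.isomorphisms Scheme)
      (restrictArrowIso (FrobSch.frob X p) U.2 hU)).mpr ?_
    have hiso : IsIso ((FrobSch.frob X p).app U.1) :=
      (ConcreteCategory.isIso_iff_bijective _).mpr (h U.1).bij
    exact inferInstanceAs (IsIso (Spec.map _))
  · intro h U
    have : IsIso (FrobSch.frob X p) := h
    have hb := (ConcreteCategory.isIso_iff_bijective ((FrobSch.frob X p).app U)).mp inferInstance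
    exact ⟨FrobSch.natCast_eq_zero_app X p U, hb⟩

variable {p}

omit hp in
theorem PerfSec.isCharP {X : Scheme.{u}} (h : PerfSec p X) : FrobSch.IsCharP X p :=
  ⟨(h ⊤).cast_eq⟩

theorem PerfSec.isReduced {X : Scheme.{u}} (h : PerfSec p X) : IsReduced X :=
  have := fun U => (h U).isReduced
  ⟨this⟩

omit hp in
theorem PerfSec.opens {X : Scheme.{u}} (h : PerfSec p X) (U : X.Opens) : PerfSec p U :=
  fun V => h (U.ι ''ᵁ V)

omit hp in
theorem PerfSec.of_openImmersion {X U : Scheme.{u}} (j : U ⟶ X) [IsOpenImmersion j]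
    (h : PerfSec p X) : PerfSec p U :=
  fun V => (h (j ''ᵁ V)).congr (j.appIso V).commRingCatIsoToRingEquiv

/-- `π` is a perfection: source perfect and universal among maps from perfect schemes. -/
structure IsPerfn (p : ℕ) {XP X : Scheme.{u}} (π : XP ⟶ X) : Prop where
  perf : PerfSec p XP
  bij : ∀ Y : Scheme.{u}, PerfSec p Y → Function.Bijective fun g : Y ⟶ XP => g ≫ π

theorem isPerfn_of {XP X : Scheme.{u}} [FrobSch.IsCharP XP p] {π : XP ⟶ X}
    (h : FrobSch.IsPerfection π p) : IsPerfn p π :=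
  ⟨(perfSec_iff_isPerfect p XP).mpr h.1, fun Y hY => by
    have := hY.isCharP
    exact h.2 Y ((perfSec_iff_isPerfect p Y).mp hY)⟩

theorem isPerfection_of {XP X : Scheme.{u}} [FrobSch.IsCharP XP p] {π : XP ⟶ X}
    (h : IsPerfn p π) : FrobSch.IsPerfection π p :=
  ⟨(perfSec_iff_isPerfect p XP).mp h.perf, fun Y _ hY =>
    h.bij Y ((perfSec_iff_isPerfect p Y).mpr hY)⟩

omit hp in
theorem IsPerfn.restrict {XP X : Scheme.{u}} {π : XP ⟶ X} (h : IsPerfn p π) (U : X.Opens) :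
    IsPerfn p (π ∣_ U) := by
  refine ⟨h.perf.opens _, fun Y hY => ⟨fun a b hab => ?_, fun g => ?_⟩⟩
  · rw [← cancel_mono (π ⁻¹ᵁ U).ι]
    apply (h.bij Y hY).1
    simp only [Category.assoc, ← morphismRestrict_ι]
    simpa [morphismRestrict_ι] using congrArg (· ≫ U.ι) hab
  · obtain ⟨G, hG⟩ := (h.bij Y hY).2 (g ≫ U.ι)
    change G ≫ π = g ≫ U.ι at hG
    have hr : Set.range G ⊆ Set.range (π ⁻¹ᵁ U).ι := by
      rintro - ⟨y, rfl⟩
      rw [Scheme.Opens.range_ι]
      change π (G y) ∈ U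
      rw [← Scheme.Hom.comp_apply, hG]
      exact (g y).2
    refine ⟨IsOpenImmersion.lift (π ⁻¹ᵁ U).ι G hr, ?_⟩
    rw [← cancel_mono U.ι]
    simp [morphismRestrict_ι, IsOpenImmersion.lift_fac_assoc, hG]

omit hp in
theorem perfn_iso {XP XP' X : Scheme.{u}} {π : XP ⟶ X} {π' : XP' ⟶ X} (h : IsPerfn p π)
    (h' : IsPerfn p π') : ∃ e : XP ≅ XP', e.hom ≫ π' = π := by
  obtain ⟨a, ha⟩ := (h'.bij XP h.perf).2 π
  obtain ⟨b, hb⟩ := (h.bij XP' h'.perf).2 π'
  change a ≫ π' = π at ha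
  change b ≫ π = π' at hb
  refine ⟨⟨a, b, (h.bij XP h.perf).1 ?_, (h'.bij XP' h'.perf).1 ?_⟩, ha⟩ <;> simp [ha, hb]

theorem perfSec_Spec {S : CommRingCat.{u}} (h : PerfR p S) : PerfSec p (Spec S) := by
  have hc : FrobSch.IsCharP (Spec S) p := ⟨by
    apply (Scheme.ΓSpecIso S).commRingCatIsoToRingEquiv.injective
    rw [map_natCast, map_zero]
    exact h.cast_eq⟩
  have htop : PerfR p Γ(Spec S, ⊤) := h.congr (Scheme.ΓSpecIso S).commRingCatIsoToRingEquiv.symm
  rw [perfSec_iff_isPerfect]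
  have hiso : IsIso ((FrobSch.frob (Spec S) p).appTop) :=
    (ConcreteCategory.isIso_iff_bijective _).mpr htop.bij
  exact (MorphismProperty.arrow_mk_iso_iff (MorphismProperty.isomorphisms Scheme)
      (arrowIsoSpecΓOfIsAffine (FrobSch.frob (Spec S) p))).mpr
    (inferInstanceAs (IsIso (Spec.map _)))

theorem isPerfn_SpecMap {R S : CommRingCat.{u}} (i : R ⟶ S) (hR : (p : R) = 0)
    (hS : PerfR p S) (hi : PRad p i.hom) : IsPerfn p (Spec.map i) := by
  refine ⟨perfSec_Spec hS, fun Y hY => ⟨fun a b hab => ?_, fun g => ?_⟩⟩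
  · apply ext_of_isAffine
    have key := congrArg (fun m : Y ⟶ Spec R => (Scheme.ΓSpecIso R).inv ≫ m.appTop) hab
    simp only [Scheme.Hom.comp_appTop, ← Category.assoc, ← Scheme.ΓSpecIso_inv_naturality] at key
    simp only [Category.assoc] at key
    rw [← cancel_epi (Scheme.ΓSpecIso S).inv]
    have hu := (hi.existsUnique_lift hR (hY ⊤)
      ((i ≫ (Scheme.ΓSpecIso S).inv ≫ a.appTop).hom)).unique
      (y₁ := ((Scheme.ΓSpecIso S).inv ≫ a.appTop).hom)
      (y₂ := ((Scheme.ΓSpecIso S).inv ≫ b.appTop).hom) rfl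
      (congrArg CommRingCat.Hom.hom key).symm
    exact CommRingCat.hom_ext hu
  · obtain ⟨φ, hφ, -⟩ := hi.existsUnique_lift hR (hY ⊤) ((Scheme.ΓSpecIso R).inv ≫ g.appTop).hom
    refine ⟨Y.toSpecΓ ≫ Spec.map (CommRingCat.ofHom φ), ?_⟩
    change (Y.toSpecΓ ≫ Spec.map (CommRingCat.ofHom φ)) ≫ Spec.map i = g
    rw [Category.assoc, ← Spec.map_comp, show i ≫ CommRingCat.ofHom φ =
      (Scheme.ΓSpecIso R).inv ≫ g.appTop from CommRingCat.hom_ext hφ, Spec.map_comp,
      ← Scheme.toSpecΓ_naturality_assoc, toSpecΓ_SpecMap_ΓSpecIso_inv, Category.comp_id]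

/-- Over an affine open a perfection is `Spec` of a perfect closure. -/
theorem IsPerfn.app_pRad {XP X : Scheme.{u}} [FrobSch.IsCharP X p] {π : XP ⟶ X} (h : IsPerfn p π)
    {U : X.Opens} (hU : IsAffineOpen U) :
    IsAffineOpen (π ⁻¹ᵁ U) ∧ PRad p (π.app U).hom := by
  have hR := FrobSch.natCast_eq_zero_app X p U
  obtain ⟨S, _, i, hS, hi⟩ := exists_perfClosure (p := p) Γ(X, U) hR
  have hperf : IsPerfn p (Spec.map (CommRingCat.ofHom i) ≫ hU.isoSpec.inv) := by
    have hb := isPerfn_SpecMap (CommRingCat.ofHom i) hR hS hi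
    refine ⟨hb.perf, fun Y hY => ?_⟩
    have : (fun g : Y ⟶ Spec (CommRingCat.of S) => g ≫ Spec.map (CommRingCat.ofHom i) ≫
        hU.isoSpec.inv) = (fun g => g ≫ hU.isoSpec.inv) ∘ fun g => g ≫ Spec.map (CommRingCat.ofHom i) := by
      ext g; simp
    rw [this]
    exact Function.Bijective.comp ⟨fun a b hab => (cancel_mono hU.isoSpec.inv).mp hab,
      fun g => ⟨g ≫ hU.isoSpec.hom, by simp⟩⟩ (hb.bij Y hY)
  obtain ⟨e, he⟩ := perfn_iso (h.restrict U) hperf
  have hV : IsAffineOpen (π ⁻¹ᵁ U) := IsAffine.of_isIso e.hom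
  refine ⟨hV, ?_⟩
  have h1 : Spec.map (π.app U) = hV.isoSpec.inv ≫ e.hom ≫ Spec.map (CommRingCat.ofHom i) := by
    rw [← cancel_mono hU.isoSpec.inv]
    simp only [Category.assoc, he]
    rw [Iso.comp_inv_eq, Category.assoc, hU.isoSpec_hom, ← Scheme.Opens.toSpecΓ_naturality,
      hV.isoSpec_inv_toSpecΓ_assoc]
  let f : Spec Γ(XP, π ⁻¹ᵁ U) ⟶ Spec (CommRingCat.of S) := hV.isoSpec.inv ≫ e.hom
  obtain ⟨θ, hθ⟩ := Spec.map_surjective f
  have hθi : IsIso θ := by
    have : IsIso (Spec.map θ) := by rw [hθ]; infer_instance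
    have : IsIso (Scheme.Spec.map θ.op) := this
    have := isIso_of_reflects_iso θ.op Scheme.Spec
    exact isIso_of_op θ
  have h2 : π.app U = CommRingCat.ofHom i ≫ θ := by
    apply Spec.map_injective
    rw [Spec.map_comp, hθ, h1]
    simp [f]
  rw [h2]
  exact hi.comp (PRad.of_bijective ((ConcreteCategory.isIso_iff_bijective θ).mp hθi))

theorem IsPerfn.isAffineHom {XP X : Scheme.{u}} [FrobSch.IsCharP X p] {π : XP ⟶ X}
    (h : IsPerfn p π) : IsAffineHom π := ⟨fun _ hU => (h.app_pRad hU).1⟩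

theorem IsPerfn.isUnivHomeo {XP X : Scheme.{u}} [FrobSch.IsCharP X p] {π : XP ⟶ X}
    (h : IsPerfn p π) : FlatMor.IsUnivHomeo π :=
  have := h.isAffineHom
  isUnivHomeo_of_pRad π FrobSch.IsCharP.natCast_eq_zero fun _ hU => (h.app_pRad hU).2

theorem isUnivHomeo_frob (X : Scheme.{u}) [FrobSch.IsCharP X p] :
    FlatMor.IsUnivHomeo (FrobSch.frob X p) :=
  have : IsAffineHom (FrobSch.frob X p) := ⟨fun _ hU => hU⟩
  isUnivHomeo_of_pRad _ FrobSch.IsCharP.natCast_eq_zero fun U _ =>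
    PRad.of_powMap (R := Γ(X, U)) _ fun _ => rfl

end Groth.Agent.Perf96
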