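import Groth.Agent.Perf96.Sections
import Groth.Agent.UH57.Core
import Groth.Agent.Unr55.TopInv
import Mathlib.AlgebraicGeometry.Morphisms.Immersion

/-!
# Properties of morphisms and their perfections
-/

set_option autoImplicit false
set_option backward.isDefEq.respectTransparency.types false

open CategoryTheory CategoryTheory.Limits AlgebraicGeometry Opposite TopologicalSpace

namespace Groth.Agent.Perf96

universe u

variable {p : ℕ} [hp : Fact p.Prime]

/-- A universal homeomorphism between perfect schemes is an isomorphism. -/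
theorem isIso_of_isUnivHomeo {X Y : Scheme.{u}} (f : X ⟶ Y) (hX : PerfSec p X) (hY : PerfSec p Y)
    (hf : FlatMor.IsUnivHomeo f) : IsIso f := by
  have := isAffineHom_of_isUnivHomeo hf
  change (MorphismProperty.isomorphisms Scheme) f
  rw [IsZariskiLocalAtTarget.iff_of_iSup_eq_top (P := MorphismProperty.isomorphisms Scheme) _
    (iSup_affineOpens_eq_top Y)]
  intro U
  let e := restrictArrowIso f U.2 (U.2.preimage f)
  refine (MorphismProperty.arrow_mk_iso_iff (MorphismProperty.isomorphisms Scheme) e).mpr ?_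
  have : MorphismProperty.RespectsIso FlatMor.IsUnivHomeo.{u} := MorphismProperty.universally_respectsIso _
  have : MorphismProperty.IsStableUnderBaseChange FlatMor.IsUnivHomeo.{u} :=
    MorphismProperty.universally_isStableUnderBaseChange _
  have hres : FlatMor.IsUnivHomeo (f ∣_ U.1) :=
    MorphismProperty.of_isPullback (isPullback_morphismRestrict f U.1).flip hf
  have hsp : FlatMor.IsUnivHomeo (Spec.map (f.app U.1)) :=
    (MorphismProperty.arrow_mk_iso_iff FlatMor.IsUnivHomeo e).mp hres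
  let A := Γ(Y, U.1)
  let B := Γ(X, f ⁻¹ᵁ U.1)
  let _ : Algebra A B := (f.app U.1).hom.toAlgebra
  obtain ⟨hint, hri, hker⟩ := (UH57.isUnivHomeo_iff (A := A) (B := B)).mp hsp
  have hA : PerfR p A := hY U.1
  have hB : PerfR p B := hX _
  have hAr := hA.isReduced
  have hinj : Function.Injective (algebraMap A B) := (RingHom.injective_iff_ker_eq_bot _).mpr
    (by rw [eq_bot_iff]; exact hker.trans (by rw [nilradical_eq_zero]; exact le_rfl))
  have hpow : ∀ b : B, b ^ p ∈ (⊥ : Subalgebra A B) → b ∈ (⊥ : Subalgebra A B) := by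
    intro b hb
    rw [Algebra.mem_bot] at hb ⊢
    obtain ⟨a, ha⟩ := hb
    obtain ⟨a', ha'⟩ := hA.bij.2 a
    refine ⟨a', hB.bij.1 ?_⟩
    change (algebraMap A B a') ^ p = b ^ p
    rw [← map_pow, ← ha]
    exact congrArg _ ha'
  have hsurj : Function.Surjective (algebraMap A B) := by
    intro b
    by_contra hb
    have hb' : b ∉ (⊥ : Subalgebra A B) := fun h => hb (Algebra.mem_bot.mp h)
    obtain ⟨c, hc, hstep⟩ := UH57.exists_step hint hri ⊥ hb'
    apply hc
    rcases hstep with ⟨h2, h3⟩ | ⟨-, ℓ, hℓ, hℓb, hℓp⟩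
    · apply hpow
      rcases hp.out.eq_two_or_odd' with rfl | hodd
      · exact h2
      · obtain ⟨k, rfl⟩ := hodd
        have hk : 1 ≤ k := by have := hp.out.two_le; omega
        obtain ⟨j, rfl⟩ := Nat.exists_eq_add_of_le hk
        rw [show 2 * (1 + j) + 1 = 2 * j + 3 by ring, pow_add, pow_mul]
        exact mul_mem (pow_mem h2 _) h3
    · by_cases hlp : ℓ = p
      · exact hpow c (hlp ▸ hℓp)
      · obtain ⟨x, y, hxy⟩ : IsCoprime (ℓ : ℤ) (p : ℤ) :=
          Nat.isCoprime_iff_coprime.mpr ((Nat.coprime_primes hℓ hp.out).mpr hlp)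
        have h1 : (x : B) * (ℓ : B) = 1 := by
          have := congrArg (fun z : ℤ => (z : B)) hxy
          simpa [hB.cast_eq] using this
        have : c = (x : B) * ((ℓ : B) * c) := by rw [← mul_assoc, h1, one_mul]
        rw [this]
        exact mul_mem (intCast_mem _ x) hℓb
  have : IsIso (f.app U.1) := (ConcreteCategory.isIso_iff_bijective _).mpr ⟨hinj, hsurj⟩
  exact inferInstanceAs (IsIso (Spec.map _))

variable {XP YP X Y : Scheme.{u}} [FrobSch.IsCharP X p] [FrobSch.IsCharP Y p]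
  {πX : XP ⟶ X} {πY : YP ⟶ Y} {f : X ⟶ Y} {fP : XP ⟶ YP}

omit hp [FrobSch.IsCharP X p] [FrobSch.IsCharP Y p] in
theorem preimage_square (w : fP ≫ πY = πX ≫ f) (U : Y.Opens) :
    fP ⁻¹ᵁ (πY ⁻¹ᵁ U) = πX ⁻¹ᵁ (f ⁻¹ᵁ U) := by
  rw [← Scheme.Hom.comp_preimage, ← Scheme.Hom.comp_preimage, w]

theorem isUnivHomeo_iff_perfn (hX : IsPerfn p πX) (hY : IsPerfn p πY) (w : fP ≫ πY = πX ≫ f) :
    FlatMor.IsUnivHomeo f ↔ FlatMor.IsUnivHomeo fP := by
  constructor
  · intro h
    exact isUnivHomeo_of_comp_left (w ▸ isUnivHomeo_comp hX.isUnivHomeo h) hY.isUnivHomeo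
  · intro h
    have hc : FlatMor.IsUnivHomeo (πX ≫ f) := w ▸ isUnivHomeo_comp h hY.isUnivHomeo
    rw [UH57.isUnivHomeo_iff'] at hc ⊢
    have hπ := (UH57.isUnivHomeo_iff' _).mp hX.isUnivHomeo
    obtain ⟨_, h2, _⟩ := hc
    obtain ⟨_, _, _⟩ := hπ
    refine ⟨UniversallyClosed.of_comp_surjective πX f, ?_, Surjective.of_comp πX f⟩
    rw [UniversallyInjective.iff_diagonal] at h2 ⊢
    let m : pullback (πX ≫ f) (πX ≫ f) ⟶ pullback f f :=
      pullback.map _ _ _ _ πX πX (𝟙 _) (Category.comp_id _) (Category.comp_id _)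
    have hm : Surjective m := MorphismProperty.pullbackMap (P := @Surjective.{u}) (f := πX ≫ f)
      (g := πX ≫ f) inferInstance inferInstance rfl rfl
    have hd : pullback.diagonal (πX ≫ f) ≫ m = πX ≫ pullback.diagonal f := by
      refine pullback.hom_ext ?_ ?_
      · rw [Category.assoc]; erw [pullback.lift_fst]
        rw [pullback.diagonal_fst_assoc, Category.assoc, pullback.diagonal_fst, Category.comp_id]
      · rw [Category.assoc]; erw [pullback.lift_snd]
        rw [pullback.diagonal_snd_assoc, Category.assoc, pullback.diagonal_snd, Category.comp_id]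
    have : Surjective (πX ≫ pullback.diagonal f) := hd ▸ inferInstance
    exact Surjective.of_comp πX _

theorem universallyClosed_iff_perfn (hX : IsPerfn p πX) (hY : IsPerfn p πY)
    (w : fP ≫ πY = πX ≫ f) : UniversallyClosed f ↔ UniversallyClosed fP := by
  obtain ⟨_, _, _⟩ := (UH57.isUnivHomeo_iff' _).mp hX.isUnivHomeo
  obtain ⟨_, _, _⟩ := (UH57.isUnivHomeo_iff' _).mp hY.isUnivHomeo
  have := hY.isAffineHom
  constructor
  · intro h
    have : UniversallyClosed (fP ≫ πY) := w ▸ inferInstance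
    exact UniversallyClosed.of_comp_of_isSeparated fP πY
  · intro h
    have : UniversallyClosed (πX ≫ f) := w ▸ inferInstance
    exact UniversallyClosed.of_comp_surjective πX f

theorem quasiCompact_iff_perfn (hX : IsPerfn p πX) (hY : IsPerfn p πY)
    (w : fP ≫ πY = πX ≫ f) : QuasiCompact f ↔ QuasiCompact fP := by
  let eX := (isHomeomorph_of_isUnivHomeo hX.isUnivHomeo).homeomorph
  let eY := (isHomeomorph_of_isUnivHomeo hY.isUnivHomeo).homeomorph
  have hw : ∀ x, eY (fP x) = f (eX x) := fun x => by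
    change πY (fP x) = f (πX x)
    rw [← Scheme.Hom.comp_apply, w, Scheme.Hom.comp_apply]
  constructor
  · intro h
    refine ⟨fun K hK hKc => ?_⟩
    have : fP ⁻¹' K = eX ⁻¹' (f ⁻¹' (eY '' K)) := by
      ext x
      simp [← hw]
    rw [this, eX.isCompact_preimage]
    exact QuasiCompact.isCompact_preimage _ (eY.isOpen_image.mpr hK) (hKc.image eY.continuous)
  · intro h
    refine ⟨fun K hK hKc => ?_⟩
    have : f ⁻¹' K = eX '' (fP ⁻¹' (eY ⁻¹' K)) := by
      ext x
      obtain ⟨z, rfl⟩ := eX.surjective x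
      simp [hw]
    rw [this]
    exact (QuasiCompact.isCompact_preimage _ (hK.preimage eY.continuous)
      (eY.isCompact_preimage.mpr hKc)).image eX.continuous

omit [FrobSch.IsCharP Y p] in
theorem quasiSeparatedSpace_preimage (hX : IsPerfn p πX) (V : X.Opens) :
    QuasiSeparatedSpace (V : Scheme) ↔ QuasiSeparatedSpace (πX ⁻¹ᵁ V : Scheme) := by
  have : FrobSch.IsCharP (V : Scheme) p := FrobSch.IsCharP.of_hom V.ι p
  have e := (isHomeomorph_of_isUnivHomeo (hX.restrict V).isUnivHomeo).homeomorph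
  exact ⟨fun h => QuasiSeparatedSpace.of_isOpenEmbedding e.isOpenEmbedding,
    fun h => QuasiSeparatedSpace.of_isOpenEmbedding e.symm.isOpenEmbedding⟩

theorem quasiSeparated_iff_perfn (hX : IsPerfn p πX) (hY : IsPerfn p πY)
    (w : fP ≫ πY = πX ≫ f) : QuasiSeparated f ↔ QuasiSeparated fP := by
  rw [HasAffineProperty.iff_of_iSup_eq_top (P := @QuasiSeparated.{u}) _ (iSup_affineOpens_eq_top Y),
    HasAffineProperty.iff_of_iSup_eq_top (P := @QuasiSeparated.{u})
      (fun U : Y.affineOpens => (⟨πY ⁻¹ᵁ U.1, (hY.app_pRad U.2).1⟩ : YP.affineOpens))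
      (by
        change (⨆ U : Y.affineOpens, πY ⁻¹ᵁ U.1) = ⊤
        rw [← Scheme.Hom.preimage_iSup, iSup_affineOpens_eq_top, Scheme.Hom.preimage_top])]
  refine forall_congr' fun U => ?_
  change QuasiSeparatedSpace (f ⁻¹ᵁ U.1 : Scheme) ↔
    QuasiSeparatedSpace (fP ⁻¹ᵁ (πY ⁻¹ᵁ U.1) : Scheme)
  rw [preimage_square w]
  exact quasiSeparatedSpace_preimage hX _

theorem isAffineHom_iff_perfn (hX : IsPerfn p πX) (hY : IsPerfn p πY)
    (w : fP ≫ πY = πX ≫ f) : IsAffineHom f ↔ IsAffineHom fP := by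
  have := hX.isAffineHom
  have := hY.isAffineHom
  constructor
  · intro h
    have : IsAffineHom (fP ≫ πY) := w ▸ inferInstance
    exact IsAffineHom.of_comp fP πY
  · intro h
    have hqc : QuasiCompact f := (quasiCompact_iff_perfn hX hY w).mpr inferInstance
    have hqs : QuasiSeparated f := (quasiSeparated_iff_perfn hX hY w).mpr inferInstance
    refine ⟨fun U hU => ?_⟩
    have hW : IsAffineOpen (πX ⁻¹ᵁ (f ⁻¹ᵁ U)) := by
      rw [← preimage_square w]
      exact (hY.app_pRad hU).1.preimage fP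
    have : FrobSch.IsCharP (f ⁻¹ᵁ U : Scheme) p := FrobSch.IsCharP.of_hom (f ⁻¹ᵁ U).ι p
    have : CompactSpace (f ⁻¹ᵁ U : Scheme) :=
      isCompact_iff_compactSpace.mp (QuasiCompact.isCompact_preimage _ U.2 hU.isCompact)
    have : QuasiSeparatedSpace (f ⁻¹ᵁ U : Scheme) :=
      (HasAffineProperty.iff_of_iSup_eq_top (P := @QuasiSeparated.{u}) _
        (iSup_affineOpens_eq_top Y)).mp hqs ⟨U, hU⟩
    have : IsAffine (πX ⁻¹ᵁ (f ⁻¹ᵁ U) : Scheme) := hW
    exact (hX.restrict (f ⁻¹ᵁ U)).isAffine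

theorem isSeparated_iff_perfn (hX : IsPerfn p πX) (hY : IsPerfn p πY)
    (w : fP ≫ πY = πX ≫ f) : IsSeparated f ↔ IsSeparated fP := by
  have := hX.isAffineHom
  have := hY.isAffineHom
  constructor
  · intro h
    have : IsSeparated (fP ≫ πY) := w ▸ inferInstance
    exact IsSeparated.of_comp fP πY
  · intro h
    have : IsSeparated (πX ≫ f) := w ▸ inferInstance
    have hqs : QuasiSeparated f := (quasiSeparated_iff_perfn hX hY w).mpr inferInstance
    obtain ⟨_, _, _⟩ := (UH57.isUnivHomeo_iff' _).mp hX.isUnivHomeo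
    let m : pullback (πX ≫ f) (πX ≫ f) ⟶ pullback f f :=
      pullback.map _ _ _ _ πX πX (𝟙 _) (Category.comp_id _) (Category.comp_id _)
    have hm : UniversallyClosed m := MorphismProperty.pullbackMap (P := @UniversallyClosed.{u})
      (f := πX ≫ f) (g := πX ≫ f) inferInstance inferInstance rfl rfl
    have hd : pullback.diagonal (πX ≫ f) ≫ m = πX ≫ pullback.diagonal f := by
      refine pullback.hom_ext ?_ ?_
      · rw [Category.assoc]; erw [pullback.lift_fst]
        rw [pullback.diagonal_fst_assoc, Category.assoc, pullback.diagonal_fst, Category.comp_id]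
      · rw [Category.assoc]; erw [pullback.lift_snd]
        rw [pullback.diagonal_snd_assoc, Category.assoc, pullback.diagonal_snd, Category.comp_id]
    have hr : Set.range (pullback.diagonal f) = m '' Set.range (pullback.diagonal (πX ≫ f)) := by
      rw [← Set.range_comp, ← Function.Surjective.range_comp πX.surjective (pullback.diagonal f)]
      exact congrArg (fun g : XP ⟶ pullback f f => Set.range g) hd.symm
    rw [isSeparated_iff]
    refine (IsClosedImmersion.iff_isPreimmersion).mpr ⟨inferInstance, ?_⟩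
    rw [hr]
    exact m.isClosedMap _ (pullback.diagonal (πX ≫ f)).isClosedEmbedding.isClosed_range

omit hp [FrobSch.IsCharP X p] [FrobSch.IsCharP Y p] in
theorem appLE_square (w : fP ≫ πY = πX ≫ f) (U : Y.Opens) (V : X.Opens)
    (e : V ≤ f ⁻¹ᵁ U) :
    ∃ e' : πX ⁻¹ᵁ V ≤ fP ⁻¹ᵁ (πY ⁻¹ᵁ U),
      (fP.appLE (πY ⁻¹ᵁ U) (πX ⁻¹ᵁ V) e').hom.comp (πY.app U).hom =
        (πX.app V).hom.comp (f.appLE U V e).hom := by
  have e' : πX ⁻¹ᵁ V ≤ fP ⁻¹ᵁ (πY ⁻¹ᵁ U) := (preimage_square w U).symm ▸ fun _ hx => e hx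
  refine ⟨e', ?_⟩
  rw [← CommRingCat.hom_comp, ← CommRingCat.hom_comp]
  congr 1
  rw [Scheme.Hom.app_eq_appLE, Scheme.Hom.app_eq_appLE, Scheme.Hom.appLE_comp_appLE,
    Scheme.Hom.appLE_comp_appLE]
  congr 1

theorem isClosedImmersion_perfn (hX : IsPerfn p πX) (hY : IsPerfn p πY)
    (w : fP ≫ πY = πX ≫ f) [IsClosedImmersion f] : IsClosedImmersion fP := by
  have := (isAffineHom_iff_perfn hX hY w).mp inferInstance
  rw [IsZariskiLocalAtTarget.iff_of_iSup_eq_top (P := @IsClosedImmersion.{u})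
      (fun U : Y.affineOpens => πY ⁻¹ᵁ U.1)
      (by rw [← Scheme.Hom.preimage_iSup, iSup_affineOpens_eq_top, Scheme.Hom.preimage_top])]
  intro U
  have hV := (hY.app_pRad U.2).1
  obtain ⟨e', hsq⟩ := appLE_square w U.1 (f ⁻¹ᵁ U.1) le_rfl
  have hs := surjective_of_square hsq (hX.app_pRad (U.2.preimage f)).2 (hY.perf _) (hX.perf _) (by
    rw [← Scheme.Hom.app_eq_appLE]; exact f.app_surjective _ U.2)
  have : Function.Surjective (fP.app (πY ⁻¹ᵁ U.1)) := by
    intro t
    obtain ⟨a, ha⟩ := hs (XP.presheaf.map (eqToHom (preimage_square w U.1).symm).op t)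
    refine ⟨a, (ConcreteCategory.bijective_of_isIso
      (XP.presheaf.map (eqToHom (preimage_square w U.1).symm).op)).1 ?_⟩
    rw [← ha, Scheme.Hom.appLE, CommRingCat.comp_apply]
    congr 1
  exact (MorphismProperty.arrow_mk_iso_iff @IsClosedImmersion
    (restrictArrowIso fP hV (hV.preimage fP))).mpr (IsClosedImmersion.spec_of_surjective _ this)

omit hp [FrobSch.IsCharP X p] [FrobSch.IsCharP Y p] in
theorem isOpenImmersion_perfn (hX : IsPerfn p πX) (hY : IsPerfn p πY)
    (w : fP ≫ πY = πX ≫ f) [IsOpenImmersion f] : IsOpenImmersion fP := by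
  have hp' : IsPerfn p (πX ≫ f.isoOpensRange.hom) := ⟨hX.perf, fun T hT => by
    have : (fun g : T ⟶ XP => g ≫ πX ≫ f.isoOpensRange.hom) =
        (fun g => g ≫ f.isoOpensRange.hom) ∘ fun g => g ≫ πX := by ext g; simp
    rw [this]
    exact Function.Bijective.comp ⟨fun a b hab => (cancel_mono f.isoOpensRange.hom).mp hab,
      fun g => ⟨g ≫ f.isoOpensRange.inv, by simp⟩⟩ (hX.bij T hT)⟩
  obtain ⟨e, he⟩ := perfn_iso hp' (hY.restrict f.opensRange)
  have : fP = e.hom ≫ (πY ⁻¹ᵁ f.opensRange).ι := by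
    apply (hY.bij XP hX.perf).1
    change fP ≫ πY = (e.hom ≫ _) ≫ πY
    rw [Category.assoc, ← morphismRestrict_ι, reassoc_of% he, w, Scheme.Hom.isoOpensRange_hom_ι]
  rw [this]
  infer_instance

theorem isImmersion_perfn (hX : IsPerfn p πX) (hY : IsPerfn p πY)
    (w : fP ≫ πY = πX ≫ f) [IsImmersion f] : IsImmersion fP := by
  have : FrobSch.IsCharP (f.coborderRange : Scheme) p :=
    FrobSch.IsCharP.of_hom f.coborderRange.ι p
  obtain ⟨c, hc⟩ := ((hY.restrict f.coborderRange).bij XP hX.perf).2 (πX ≫ f.liftCoborder)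
  change c ≫ πY ∣_ f.coborderRange = πX ≫ f.liftCoborder at hc
  have := isClosedImmersion_perfn hX (hY.restrict f.coborderRange) hc
  have : fP = c ≫ (πY ⁻¹ᵁ f.coborderRange).ι := by
    apply (hY.bij XP hX.perf).1
    change fP ≫ πY = (c ≫ _) ≫ πY
    rw [Category.assoc, ← morphismRestrict_ι, reassoc_of% hc, w, Scheme.Hom.liftCoborder_ι]
  rw [this]
  infer_instance

theorem flat_perfn (hX : IsPerfn p πX) (hY : IsPerfn p πY)
    (w : fP ≫ πY = πX ≫ f) [Flat f] : Flat fP := by
  have hcov : ∀ z : XP, ∃ U : Y.affineOpens, ∃ V : X.affineOpens,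
      ∃ _ : V.1 ≤ f ⁻¹ᵁ U.1, z ∈ πX ⁻¹ᵁ V.1 := by
    intro z
    obtain ⟨U, hU, hxU, -⟩ := exists_isAffineOpen_mem_and_subset (U := (⊤ : Y.Opens)) (x := f (πX z)) trivial
    obtain ⟨V, hV, hxV, hVU⟩ := exists_isAffineOpen_mem_and_subset (U := f ⁻¹ᵁ U) (x := πX z) hxU
    exact ⟨⟨U, hU⟩, ⟨V, hV⟩, hVU, hxV⟩
  choose U V hVU hz using hcov
  refine IsZariskiLocalAtSource.of_iSup_eq_top (P := @Flat.{u}) (fun z => πX ⁻¹ᵁ (V z).1)
    (eq_top_iff.mpr fun z _ => Opens.mem_iSup.mpr ⟨z, hz z⟩) fun z => ?_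
  obtain ⟨hU', hUp⟩ := hY.app_pRad (U z).2
  obtain ⟨hV', hVp⟩ := hX.app_pRad (V z).2
  obtain ⟨e', hsq⟩ := appLE_square w _ _ (hVU z)
  have hflat := flat_of_square hsq (FrobSch.natCast_eq_zero_app X p _) hUp hVp (hY.perf _)
    (hX.perf _) (HasRingHomProperty.appLE @Flat f inferInstance (U z) (V z) (hVU z))
  have : Flat (Spec.map (fP.appLE _ _ e')) := HasRingHomProperty.Spec_iff.mpr hflat
  have h2 : (πX ⁻¹ᵁ (V z).1).ι ≫ fP =
      hV'.isoSpec.hom ≫ Spec.map (fP.appLE _ _ e') ≫ hU'.fromSpec := by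
    rw [IsAffineOpen.SpecMap_appLE_fromSpec fP hU' hV' e', hV'.isoSpec_hom_fromSpec_assoc]
  rw [h2]
  infer_instance

theorem flat_surjective_perfn (hX : IsPerfn p πX) (hY : IsPerfn p πY)
    (w : fP ≫ πY = πX ≫ f) [Flat f] [Surjective f] : Flat fP ∧ Surjective fP := by
  refine ⟨flat_perfn hX hY w, ⟨fun y => ?_⟩⟩
  have hπX := isHomeomorph_of_isUnivHomeo hX.isUnivHomeo
  have hπY := isHomeomorph_of_isUnivHomeo hY.isUnivHomeo
  obtain ⟨x, hx⟩ := f.surjective (πY y)
  obtain ⟨z, rfl⟩ := hπX.surjective x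
  refine ⟨z, hπY.injective ?_⟩
  rw [← Scheme.Hom.comp_apply, w, Scheme.Hom.comp_apply, hx]

omit [FrobSch.IsCharP X p] [FrobSch.IsCharP Y p] in
theorem isPullback_perfn_of_etale (hX : IsPerfn p πX) (hY : IsPerfn p πY)
    (w : fP ≫ πY = πX ≫ f) [Etale f] : IsPullback fP πX πY f := by
  let P := pullback f πY
  let q : P ⟶ X := pullback.fst f πY
  let r : P ⟶ YP := pullback.snd f πY
  have : Etale r := inferInstanceAs (Etale (pullback.snd f πY))
  have : FrobSch.IsCharP YP p := hY.perf.isCharP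
  have : FrobSch.IsCharP P p := FrobSch.IsCharP.of_hom r p
  have hPperf : PerfSec p P := by
    have hY' : IsIso (FrobSch.frob YP p) := (perfSec_iff_isPerfect p YP).mp hY.perf
    have hc := FrobSch.frob_comp p r
    have : Etale (FrobSch.frob P p ≫ r) := hc ▸ inferInstance
    have : Etale (FrobSch.frob P p) := Etale.of_comp _ r
    obtain ⟨_, _, _⟩ := (UH57.isUnivHomeo_iff' _).mp (isUnivHomeo_frob (p := p) P)
    have := Groth.Agent.Unr55.mono_of_universallyInjective (FrobSch.frob P p) inferInstance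
    have := IsOpenImmersion.of_flat_of_mono (FrobSch.frob P p)
    rw [perfSec_iff_isPerfect]
    have : Epi (FrobSch.frob P p).base :=
      (TopCat.epi_iff_surjective _).mpr (FrobSch.frob P p).surjective
    exact IsOpenImmersion.isIso _
  have hq : IsPerfn p q := ⟨hPperf, fun T hT => ⟨fun a b hab => by
      apply pullback.hom_ext hab
      apply (hY.bij T hT).1
      change (a ≫ r) ≫ πY = (b ≫ r) ≫ πY
      simp only [r, Category.assoc, ← pullback.condition]
      simpa [q] using congrArg (· ≫ f) hab,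
    fun a => by
      obtain ⟨b, hb⟩ := (hY.bij T hT).2 (a ≫ f)
      exact ⟨pullback.lift a b hb.symm, pullback.lift_fst _ _ _⟩⟩⟩
  obtain ⟨e, he⟩ := perfn_iso hX hq
  have h2 : e.hom ≫ r = fP := by
    apply (hY.bij XP hX.perf).1
    change (e.hom ≫ r) ≫ πY = fP ≫ πY
    rw [w, ← he]
    simp [q, r, pullback.condition]
  exact IsPullback.of_iso (IsPullback.of_hasPullback f πY).flip e.symm (Iso.refl _) (Iso.refl _)
    (Iso.refl _) (by simp [← h2, r]) (by simp [← he, q]) (by simp) (by simp)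

end Groth.Agent.Perf96
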