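import Mathlib.FieldTheory.IsPerfectClosure
import Mathlib.Algebra.CharP.Lemmas

/-!
# Perfect rings and p-radical maps, zero ring included
-/

set_option autoImplicit false

namespace Groth.Agent.Perf96

universe u

/-- A ring in which `p = 0` and the `p`-th power map is bijective; the zero ring is allowed. -/
structure PerfR (p : ℕ) (R : Type u) [CommRing R] : Prop where
  cast_eq : (p : R) = 0
  bij : Function.Bijective fun r : R => r ^ p

/-- A ring map with nil kernel, every element having a `p`-power power in the image. -/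
structure PRad (p : ℕ) {R S : Type u} [CommRing R] [CommRing S] (i : R →+* S) : Prop where
  ker_le : RingHom.ker i ≤ nilradical R
  pow_mem : ∀ s : S, ∃ n : ℕ, s ^ (p ^ n) ∈ i.range

variable {p : ℕ} [hp : Fact p.Prime] {R S T : Type u} [CommRing R] [CommRing S] [CommRing T]

omit hp in
theorem PerfR.congr (h : PerfR p R) (e : R ≃+* S) : PerfR p S where
  cast_eq := by rw [← map_natCast e, h.cast_eq, map_zero]
  bij := by
    have : (fun s : S => s ^ p) = e ∘ (fun r : R => r ^ p) ∘ e.symm := by ext s; simp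
    rw [this]
    exact e.bijective.comp (h.bij.comp e.symm.bijective)

omit hp in
theorem PerfR.pow_bij (h : PerfR p R) (n : ℕ) : Function.Bijective fun r : R => r ^ (p ^ n) := by
  induction n with
  | zero => exact (by ext r; simp : id = fun r : R => r ^ (p ^ 0)) ▸ Function.bijective_id
  | succ n ih =>
    have : (fun r : R => r ^ (p ^ (n + 1))) = (fun r : R => r ^ p) ∘ fun r : R => r ^ (p ^ n) := by
      ext r; simp [pow_succ, pow_mul]
    rw [this]
    exact h.bij.comp ih

theorem PerfR.isReduced (h : PerfR p R) : IsReduced R := by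
  rw [isReduced_iff_pow_one_lt p hp.out.one_lt]
  intro x hx
  exact h.bij.1 (by simpa [zero_pow hp.out.ne_zero] using hx)

omit hp in
theorem PRad.of_bijective {e : R →+* S} (he : Function.Bijective e) : PRad p e where
  ker_le := by
    intro x hx
    have : x = 0 := he.1 (by rw [RingHom.mem_ker.mp hx, map_zero])
    rw [this]; exact zero_mem _
  pow_mem s := ⟨0, by obtain ⟨r, rfl⟩ := he.2 s; simp⟩

omit hp in
theorem PRad.comp {i : R →+* S} {j : S →+* T} (hi : PRad p i) (hj : PRad p j) :
    PRad p (j.comp i) where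
  ker_le x hx := by
    obtain ⟨n, hn⟩ := mem_nilradical.mp (hj.ker_le (RingHom.mem_ker.mpr hx : i x ∈ RingHom.ker j))
    have : x ^ n ∈ nilradical R := hi.ker_le (by rw [RingHom.mem_ker, map_pow, hn])
    obtain ⟨m, hm⟩ := mem_nilradical.mp this
    exact mem_nilradical.mpr ⟨n * m, by rw [pow_mul, hm]⟩
  pow_mem t := by
    obtain ⟨n, s, hs⟩ := hj.pow_mem t
    obtain ⟨m, r, hr⟩ := hi.pow_mem s
    exact ⟨n + m, r, by rw [RingHom.comp_apply, hr, map_pow, hs, ← pow_mul, ← pow_add]⟩

omit hp in
theorem PRad.pow_range (i : R →+* S) (hi : PRad p i) (hp1 : 0 < p) (s : S) :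
    ∃ n > 0, s ^ n ∈ i.range := by
  obtain ⟨n, hn⟩ := hi.pow_mem s
  exact ⟨p ^ n, pow_pos hp1 n, hn⟩

omit hp in
/-- The `p`-th power map is `p`-radical. -/
theorem PRad.of_powMap (e : R →+* R) (he : ∀ r, e r = r ^ p) : PRad p e where
  ker_le x hx := mem_nilradical.mpr ⟨p, by rw [← he]; exact hx⟩
  pow_mem r := ⟨1, r, by simp [he]⟩

/-- Maps out of a `p`-radical extension into a perfect ring. -/
theorem PRad.existsUnique_lift {i : R →+* S} (hi : PRad p i) (hR : (p : R) = 0)
    (hT : PerfR p T) (j : R →+* T) : ∃! g : S →+* T, g.comp i = j := by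
  refine existsUnique_of_exists_of_unique ?_ ?_
  · rcases subsingleton_or_nontrivial T with hT' | hT'
    · refine ⟨RingHom.mk' ⟨⟨fun _ => 0, Subsingleton.elim _ _⟩, fun _ _ => Subsingleton.elim _ _⟩
        fun _ _ => Subsingleton.elim _ _, RingHom.ext fun _ => Subsingleton.elim _ _⟩
    have : Nontrivial R := j.domain_nontrivial
    have : Nontrivial S := by
      refine nontrivial_of_ne (1 : S) 0 fun h => ?_
      have := hi.ker_le (show (1 : R) ∈ RingHom.ker i by rw [RingHom.mem_ker, map_one, h])
      obtain ⟨n, hn⟩ := mem_nilradical.mp this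
      simp at hn
    have hSp : (p : S) = 0 := by rw [← map_natCast i, hR, map_zero]
    have : CharP R p := (CharP.charP_iff_prime_eq_zero hp.out).mpr hR
    have : CharP S p := (CharP.charP_iff_prime_eq_zero hp.out).mpr hSp
    have : CharP T p := (CharP.charP_iff_prime_eq_zero hp.out).mpr hT.cast_eq
    have : PerfectRing T p := ⟨hT.bij⟩
    have : IsPRadical i p := ⟨fun s => by obtain ⟨n, r, hr⟩ := hi.pow_mem s; exact ⟨n, r, hr⟩,
      by rw [pNilradical_eq_nilradical hp.out.one_lt]; exact hi.ker_le⟩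
    exact ⟨PerfectRing.lift i j p, PerfectRing.lift_comp i j p⟩
  · intro g g' hg hg'
    ext s
    obtain ⟨n, r, hr⟩ := hi.pow_mem s
    apply (hT.pow_bij n).1
    change g s ^ (p ^ n) = g' s ^ (p ^ n)
    rw [← map_pow, ← map_pow, ← hr, ← RingHom.comp_apply, ← RingHom.comp_apply, hg, hg']

/-- Existence of a perfect closure. -/
theorem exists_perfClosure (R : Type u) [CommRing R] (hR : (p : R) = 0) :
    ∃ (S : Type u) (_ : CommRing S) (i : R →+* S), PerfR p S ∧ PRad p i := by
  rcases subsingleton_or_nontrivial R with h | h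
  · exact ⟨R, inferInstance, RingHom.id R,
      ⟨Subsingleton.elim _ _, ⟨fun _ _ _ => Subsingleton.elim _ _,
        fun b => ⟨b, Subsingleton.elim _ _⟩⟩⟩, PRad.of_bijective Function.bijective_id⟩
  have : CharP R p := (CharP.charP_iff_prime_eq_zero hp.out).mpr hR
  refine ⟨PerfectClosure R p, inferInstance, PerfectClosure.of R p,
    ⟨CharP.cast_eq_zero _ p, PerfectRing.bijective_frobenius⟩, ⟨?_, fun s => ?_⟩⟩
  · rw [← pNilradical_eq_nilradical (R := R) hp.out.one_lt]
    exact IsPRadical.ker_le (PerfectClosure.of R p) p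
  · obtain ⟨n, r, hr⟩ := IsPRadical.pow_mem (PerfectClosure.of R p) p s
    exact ⟨n, r, hr⟩

end Groth.Agent.Perf96
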