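import Groth.Agent.Perf96.Ring
import Mathlib.RingTheory.Flat.EquationalCriterion
import Mathlib.RingTheory.RingHom.Flat

/-!
# Ring squares of perfect closures
-/

set_option autoImplicit false

namespace Groth.Agent.Perf96

universe u

variable {p : ℕ} [hp : Fact p.Prime] {A B A' B' : Type u} [CommRing A] [CommRing B] [CommRing A']
  [CommRing B']

theorem sum_pow_p {R : Type u} [CommRing R] (hR : (p : R) = 0) {ι : Type*} (s : Finset ι)
    (f : ι → R) (n : ℕ) : (∑ i ∈ s, f i) ^ (p ^ n) = ∑ i ∈ s, f i ^ (p ^ n) := by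
  rcases subsingleton_or_nontrivial R with h | h
  · exact Subsingleton.elim _ _
  · have : CharP R p := (CharP.charP_iff_prime_eq_zero hp.out).mpr hR
    exact sum_pow_char_pow p n s f

theorem sub_pow_p {R : Type u} [CommRing R] (hR : (p : R) = 0) (a b : R) (n : ℕ) :
    (a - b) ^ (p ^ n) = a ^ (p ^ n) - b ^ (p ^ n) := by
  rcases subsingleton_or_nontrivial R with h | h
  · exact Subsingleton.elim _ _
  · have : CharP R p := (CharP.charP_iff_prime_eq_zero hp.out).mpr hR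
    exact sub_pow_char_pow a b n

theorem exists_pow_p_eq_zero {R : Type u} [CommRing R] {x : R} (h : x ∈ nilradical R) :
    ∃ n : ℕ, x ^ (p ^ n) = 0 := by
  obtain ⟨n, hn⟩ := mem_nilradical.mp h
  exact ⟨n, pow_eq_zero_of_le (Nat.lt_pow_self hp.out.one_lt).le hn⟩

omit hp in
theorem PRad.common {iB : B →+* B'} (hB : PRad p iB) {ι : Type*} [Fintype ι] (x : ι → B') :
    ∃ n : ℕ, ∀ i, x i ^ (p ^ n) ∈ iB.range := by
  choose n hn using fun i => hB.pow_mem (x i)
  refine ⟨∑ i, n i, fun i => ?_⟩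
  obtain ⟨d, hd⟩ := Nat.exists_eq_add_of_le (Finset.single_le_sum
    (f := n) (fun _ _ => Nat.zero_le _) (Finset.mem_univ i))
  rw [hd, pow_add, pow_mul]
  obtain ⟨b, hb⟩ := hn i
  exact ⟨b ^ _, by rw [map_pow, hb]⟩

omit hp in
theorem surjective_of_square {iA : A →+* A'} {iB : B →+* B'} {h : A →+* B} {g : A' →+* B'}
    (hsq : g.comp iA = iB.comp h) (hB : PRad p iB) (hA' : PerfR p A') (hB' : PerfR p B')
    (hs : Function.Surjective h) : Function.Surjective g := by
  intro t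
  obtain ⟨n, b, hb⟩ := hB.pow_mem t
  obtain ⟨a, rfl⟩ := hs b
  obtain ⟨c, hc⟩ := (hA'.pow_bij n).2 (iA a)
  change c ^ (p ^ n) = iA a at hc
  refine ⟨c, (hB'.pow_bij n).1 ?_⟩
  change g c ^ (p ^ n) = t ^ (p ^ n)
  rw [← map_pow, hc, ← RingHom.comp_apply, hsq, RingHom.comp_apply, hb]

theorem flat_of_square {iA : A →+* A'} {iB : B →+* B'} {h : A →+* B} {g : A' →+* B'}
    (hsq : g.comp iA = iB.comp h) (hBp : (p : B) = 0) (hA : PRad p iA) (hB : PRad p iB)
    (hA' : PerfR p A') (hB' : PerfR p B') (hf : h.Flat) : g.Flat := by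
  let _ : Algebra A B := h.toAlgebra
  let _ : Algebra A' B' := g.toAlgebra
  change Module.Flat A B at hf
  change Module.Flat A' B'
  rw [Module.Flat.iff_forall_isTrivialRelation]
  intro l s x hrel
  obtain ⟨n₁, hn₁⟩ := hA.common s
  obtain ⟨n₂, hn₂⟩ := hB.common x
  have hs : ∀ i, s i ^ (p ^ (n₁ + n₂)) ∈ iA.range := fun i => by
    rw [pow_add, pow_mul]; exact pow_mem (hn₁ i) _
  have hx : ∀ i, x i ^ (p ^ (n₁ + n₂)) ∈ iB.range := fun i => by
    rw [pow_add, mul_comm, pow_mul]; exact pow_mem (hn₂ i) _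
  set n := n₁ + n₂
  choose a ha using hs
  choose c hc using hx
  have hker : iB (∑ i, h (a i) * c i) = 0 := by
    have h0 : (∑ i, g (s i) * x i) ^ (p ^ n) = 0 := by
      rw [show ∑ i, g (s i) * x i = 0 from hrel, zero_pow (pow_ne_zero _ hp.out.ne_zero)]
    rw [sum_pow_p hB'.cast_eq] at h0
    rw [map_sum, ← h0]
    refine Finset.sum_congr rfl fun i _ => ?_
    rw [mul_pow, ← map_pow, ← ha i, map_mul, hc i, ← RingHom.comp_apply, ← hsq]
    rfl
  obtain ⟨m, hm⟩ := exists_pow_p_eq_zero (p := p) (hB.ker_le hker)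
  rw [sum_pow_p hBp] at hm
  have hrel' : ∑ i, (a i ^ (p ^ m)) • (c i ^ (p ^ m)) = 0 := by
    rw [← hm]
    refine Finset.sum_congr rfl fun i _ => ?_
    rw [mul_pow, Algebra.smul_def, map_pow]
    rfl
  obtain ⟨k, r, y, hr1, hr2⟩ := Module.Flat.iff_forall_isTrivialRelation.mp hf hrel'
  replace hr1 : ∀ i, c i ^ (p ^ m) = ∑ j, r i j • y j := hr1
  replace hr2 : ∀ j, ∑ i, a i ^ (p ^ m) * r i j = 0 := hr2
  choose r' hr' using fun i j => (hA'.pow_bij (n + m)).2 (iA (r i j))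
  choose y' hy' using fun j => (hB'.pow_bij (n + m)).2 (iB (y j))
  replace hr' : ∀ i j, r' i j ^ (p ^ (n + m)) = iA (r i j) := hr'
  replace hy' : ∀ j, y' j ^ (p ^ (n + m)) = iB (y j) := hy'
  refine ⟨k, r', y', fun i => ?_, fun j => ?_⟩
  · apply (hB'.pow_bij (n + m)).1
    change x i ^ (p ^ (n + m)) = (∑ j, g (r' i j) * y' j) ^ (p ^ (n + m))
    rw [sum_pow_p hB'.cast_eq, pow_add, pow_mul, ← hc i, ← map_pow, hr1 i, map_sum]
    refine Finset.sum_congr rfl fun j _ => ?_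
    rw [Algebra.smul_def, map_mul, ← pow_add, mul_pow, ← map_pow g]
    rw [hr' i j, hy' j]
    rw [← RingHom.comp_apply g, hsq]
    rfl
  · apply (hA'.pow_bij (n + m)).1
    change (∑ i, s i * r' i j) ^ (p ^ (n + m)) = 0 ^ (p ^ (n + m))
    rw [zero_pow (pow_ne_zero _ hp.out.ne_zero), sum_pow_p hA'.cast_eq, ← map_zero iA, ← hr2 j,
      map_sum]
    refine Finset.sum_congr rfl fun i _ => ?_
    rw [mul_pow]
    rw [hr' i j]
    rw [map_mul, pow_add, pow_mul, ← ha i, ← map_pow]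

end Groth.Agent.Perf96
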