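import Groth.Agent.Perf96.RingSquare
import Groth.Agent.Perf96.Basic
import Mathlib.AlgebraicGeometry.Morphisms.QuasiSeparated
import Mathlib.RingTheory.Spectrum.Prime.Homeomorph

/-!
# `p`-radicality of a perfection on qcqs opens; descent of affineness
-/

set_option autoImplicit false

open CategoryTheory CategoryTheory.Limits AlgebraicGeometry Opposite TopologicalSpace

namespace Groth.Agent.Perf96

universe u

variable {p : ℕ} [hp : Fact p.Prime] {XP X : Scheme.{u}} {π : XP ⟶ X}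

omit hp in
theorem isNilpotent_of_app_eq_zero [Surjective π] {U : X.Opens} (hU : IsCompact (U : Set X))
    {s : Γ(X, U)} (hs : π.app U s = 0) : IsNilpotent s := by
  rw [Scheme.isNilpotent_iff_basicOpen_eq_bot_of_isCompact hU]
  ext x
  simp only [Opens.coe_bot, Set.mem_empty_iff_false, iff_false]
  intro hx
  obtain ⟨z, rfl⟩ := π.surjective x
  have : z ∈ π ⁻¹ᵁ X.basicOpen s := hx
  rw [Scheme.preimage_basicOpen, hs, Scheme.basicOpen_zero] at this
  exact this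

omit hp in
theorem app_map {U V : X.Opens} (h : V ≤ U) (s : Γ(X, U)) :
    π.app V (X.presheaf.map (homOfLE h).op s) =
      XP.presheaf.map (homOfLE (show π ⁻¹ᵁ V ≤ π ⁻¹ᵁ U from fun _ hx => h hx)).op (π.app U s) :=
  congrArg (fun φ => φ.hom s) (π.naturality (homOfLE h).op)

theorem IsPerfn.exists_app_eq_pow [FrobSch.IsCharP X p] [QuasiSeparatedSpace X] (h : IsPerfn p π)
    {U : X.Opens} (hU : IsCompact (U : Set X)) :
    ∀ t : Γ(XP, π ⁻¹ᵁ U), ∃ (n : ℕ) (s : Γ(X, U)), π.app U s = t ^ (p ^ n) := by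
  have : Surjective π :=
    ((Groth.Agent.UH57.isUnivHomeo_iff' π).mp h.isUnivHomeo).2.2
  refine compact_open_induction_on
    (P := fun W : X.Opens => ∀ t : Γ(XP, π ⁻¹ᵁ W), ∃ (n : ℕ) (s : Γ(X, W)), π.app W s = t ^ (p ^ n))
    U hU ?_ ?_
  · intro t
    refine ⟨0, 0, ?_⟩
    have : Subsingleton Γ(XP, π ⁻¹ᵁ (⊥ : X.Opens)) :=
      CommRingCat.subsingleton_of_isTerminal (XP.sheaf.isTerminalOfEqEmpty rfl)
    exact Subsingleton.elim _ _
  · intro S hS U hSU t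
    have hle₁ : π ⁻¹ᵁ S ≤ π ⁻¹ᵁ (S ⊔ U.1) := fun _ hx => (le_sup_left : S ≤ S ⊔ U.1) hx
    have hle₂ : π ⁻¹ᵁ U.1 ≤ π ⁻¹ᵁ (S ⊔ U.1) := fun _ hx => (le_sup_right : U.1 ≤ S ⊔ U.1) hx
    obtain ⟨n₁, s₁, h₁⟩ := hSU (XP.presheaf.map (homOfLE hle₁).op t)
    obtain ⟨n₂, s₂, h₂⟩ := (h.app_pRad U.2).2.pow_mem (XP.presheaf.map (homOfLE hle₂).op t)
    have hSI : IsCompact ((S ⊓ U.1 : X.Opens) : Set X) :=
      QuasiSeparatedSpace.inter_isCompact _ _ S.2 hS U.1.2 U.2.isCompact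
    let a := X.presheaf.map (homOfLE (inf_le_left : S ⊓ U.1 ≤ S)).op (s₁ ^ (p ^ n₂))
    let b := X.presheaf.map (homOfLE (inf_le_right : S ⊓ U.1 ≤ U.1)).op (s₂ ^ (p ^ n₁))
    have hab : π.app (S ⊓ U.1) (a - b) = 0 := by
      rw [map_sub, sub_eq_zero, app_map, app_map, map_pow (π.app S).hom, map_pow (π.app U.1).hom,
        h₁, h₂, ← map_pow, ← map_pow, ← map_pow, ← map_pow]
      simp only [← CommRingCat.comp_apply, ← Functor.map_comp, ← op_comp, homOfLE_comp]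
      rw [← pow_mul, ← pow_mul, mul_comm]
    obtain ⟨m, hm⟩ := exists_pow_p_eq_zero (p := p)
      (mem_nilradical.mpr (isNilpotent_of_app_eq_zero hSI hab))
    rw [sub_pow_p (FrobSch.natCast_eq_zero_app X p _), sub_eq_zero] at hm
    let σ : Γ(X, S ⊔ U.1) := (X.sheaf.objSupIsoProdEqLocus S U.1).inv
      ⟨⟨s₁ ^ (p ^ (n₂ + m)), s₂ ^ (p ^ (n₁ + m))⟩, by
        change X.presheaf.map _ (s₁ ^ (p ^ (n₂ + m))) = X.presheaf.map _ (s₂ ^ (p ^ (n₁ + m)))
        simp only [a, b, map_pow] at hm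
        simp only [pow_add, pow_mul, map_pow]
        exact hm⟩

    refine ⟨n₁ + n₂ + m, σ, ?_⟩
    have hsup : π ⁻¹ᵁ (S ⊔ U.1) ≤ π ⁻¹ᵁ S ⊔ π ⁻¹ᵁ U.1 := fun _ hx => hx
    refine TopCat.Sheaf.eq_of_locally_eq₂ XP.sheaf (homOfLE hle₁) (homOfLE hle₂) hsup _ _ ?_ ?_
    · change XP.presheaf.map _ (π.app _ σ) = XP.presheaf.map _ _
      rw [← app_map (le_sup_left : S ≤ S ⊔ U.1)]
      rw [show X.presheaf.map (homOfLE (le_sup_left : S ≤ S ⊔ U.1)).op σ = s₁ ^ (p ^ (n₂ + m)) from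
        TopCat.Sheaf.objSupIsoProdEqLocus_inv_fst X.sheaf S U.1 _]
      rw [map_pow, h₁, map_pow, ← pow_mul, ← pow_add, add_assoc]
    · change XP.presheaf.map _ (π.app _ σ) = XP.presheaf.map _ _
      rw [← app_map (le_sup_right : U.1 ≤ S ⊔ U.1)]
      rw [show X.presheaf.map (homOfLE (le_sup_right : U.1 ≤ S ⊔ U.1)).op σ = s₂ ^ (p ^ (n₁ + m)) from
        TopCat.Sheaf.objSupIsoProdEqLocus_inv_snd X.sheaf S U.1 _]
      rw [map_pow, h₂, map_pow, ← pow_mul, ← pow_add]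
      congr 2
      omega

theorem IsPerfn.pRad_of_isCompact [FrobSch.IsCharP X p] [QuasiSeparatedSpace X] (h : IsPerfn p π)
    {U : X.Opens} (hU : IsCompact (U : Set X)) : PRad p (π.app U).hom := by
  have : Surjective π :=
    ((Groth.Agent.UH57.isUnivHomeo_iff' π).mp h.isUnivHomeo).2.2
  refine ⟨fun s hs => mem_nilradical.mpr (isNilpotent_of_app_eq_zero hU hs), fun t => ?_⟩
  obtain ⟨n, s, hs⟩ := h.exists_app_eq_pow hU t
  exact ⟨n, s, hs⟩

/-- Affineness descends along a perfection. -/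
theorem IsPerfn.isAffine [FrobSch.IsCharP X p] [CompactSpace X] [QuasiSeparatedSpace X]
    (h : IsPerfn p π) [IsAffine XP] : IsAffine X := by
  have : Surjective π :=
    ((Groth.Agent.UH57.isUnivHomeo_iff' π).mp h.isUnivHomeo).2.2
  have hpr := h.pRad_of_isCompact (U := ⊤) (by rw [Opens.coe_top]; exact isCompact_univ)
  let S : Set Γ(X, ⊤) := {f | IsAffineOpen (X.basicOpen f)}
  refine isAffine_of_isAffineOpen_basicOpen S ?_ fun _ hf => hf
  have hcov : ∀ z : XP, ∃ f ∈ S, z ∈ XP.basicOpen (π.appTop f) := by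
    intro z
    obtain ⟨V, hV, hzV, -⟩ := exists_isAffineOpen_mem_and_subset (U := (⊤ : X.Opens)) (x := π z) trivial
    obtain ⟨g, hg, hzg⟩ := (isAffineOpen_top XP).exists_basicOpen_le (V := π ⁻¹ᵁ V) ⟨z, hzV⟩ trivial
    obtain ⟨n, f, hf⟩ := hpr.pow_mem g
    have hb : XP.basicOpen (π.appTop f) = XP.basicOpen g := by
      change XP.basicOpen (π.app ⊤ f) = _
      rw [hf]
      exact Scheme.basicOpen_pow _ _ (pow_pos hp.out.pos n)
    refine ⟨f, ?_, hb ▸ hzg⟩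
    have hfV : X.basicOpen f ≤ V := by
      intro x hx
      obtain ⟨w, rfl⟩ := π.surjective x
      have hw : w ∈ π ⁻¹ᵁ X.basicOpen f := hx
      rw [Scheme.preimage_basicOpen] at hw
      exact hg (hb ▸ hw : w ∈ XP.basicOpen g)
    have := hV.basicOpen (X.presheaf.map (homOfLE (le_top : V ≤ ⊤)).op f)
    rw [Scheme.basicOpen_res, inf_eq_right.mpr hfV] at this
    exact this
  by_contra hne
  obtain ⟨M, hM, hle⟩ := Ideal.exists_le_maximal _ hne
  obtain ⟨Q, hQ⟩ := (PrimeSpectrum.isHomeomorph_comap (π.app ⊤).hom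
    (fun t => hpr.pow_range _ hp.out.pos t) hpr.ker_le).surjective ⟨M, hM.isPrime⟩
  let z := (isAffineOpen_top XP).fromSpec Q
  obtain ⟨f, hfS, hz⟩ := hcov z
  have : Q ∈ (isAffineOpen_top XP).fromSpec ⁻¹ᵁ XP.basicOpen (π.appTop f) := hz
  rw [(isAffineOpen_top XP).fromSpec_preimage_basicOpen] at this
  have hfM : f ∈ M := hle (Ideal.subset_span hfS)
  have hfQ : π.app ⊤ f ∈ Q.asIdeal := by
    have := PrimeSpectrum.ext_iff.mp hQ
    exact (SetLike.ext_iff.mp this f).mpr hfM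
  exact this hfQ

end Groth.Agent.Perf96
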